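import Groth.Agent.CurveTrace.Main
import Groth.Agent.CurveBC.Etale
import Groth.Agent.CurveCohLib.SmoothCurve
import Groth.Agent.CurveCohLib.RegularCurve
import Groth.Agent.H23.CurveCorr
import Groth.Agent.H23.FiniteFlatDeg
import Groth.Agent.Synt29.OmegaMaps
import Groth.Agent.AlgSpPts.Sep
import Groth.Agent.S5975
import Mathlib.RingTheory.Unramified.Field

/-!
The Hurwitz formula for separable maps of smooth curves.
-/

set_option autoImplicit false
set_option linter.style.haveILetI false
set_option linter.unusedSectionVars false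
set_option backward.isDefEq.respectTransparency false
set_option backward.isDefEq.respectTransparency.types false
set_option maxHeartbeats 1000000

universe u

open CategoryTheory CategoryTheory.Limits AlgebraicGeometry TopologicalSpace Opposite

noncomputable section

namespace Groth.Agent.CurveHurwitz

variable {X Y : Scheme.{u}} [IsIntegral X] [IsIntegral Y] {f : X ⟶ Y}

theorem separable_stalkMap_aux (y : Y) (hy : y = f (genericPoint X))
    (h : letI := ((Y.presheaf.stalkSpecializes (specializes_of_eq hy.symm) ≫ f.stalkMap (genericPoint X)).hom).toAlgebra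
      Algebra.IsSeparable (Y.presheaf.stalk y) (X.presheaf.stalk (genericPoint X))) :
    letI := (f.stalkMap (genericPoint X)).hom.toAlgebra
    Algebra.IsSeparable (Y.presheaf.stalk (f (genericPoint X))) (X.presheaf.stalk (genericPoint X)) := by
  subst hy
  rwa [show Y.presheaf.stalkSpecializes (specializes_of_eq rfl) ≫ f.stalkMap (genericPoint X) = f.stalkMap (genericPoint X) from
    (congrArg (· ≫ f.stalkMap (genericPoint X)) (TopCat.Presheaf.stalkSpecializes_refl Y.presheaf (f (genericPoint X)))).trans
      (Category.id_comp _)] at h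

/-- A separable extension of function fields leaves no differentials at the generic point. -/
theorem notMem_support_omega [IsFinite f] (e : f (genericPoint X) = genericPoint Y)
    (hsep : letI := (CurveTrace.ff e).toAlgebra; Algebra.IsSeparable Y.functionField X.functionField) :
    genericPoint X ∉ CohB1.support (Omega.sheaf f) := by
  have hF : IsField (Y.presheaf.stalk (f (genericPoint X))) := by
    rw [e]; exact Field.toIsField Y.functionField
  have hs := separable_stalkMap_aux (genericPoint Y) e.symm hsep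
  letI := hF.toField
  letI := (f.stalkMap (genericPoint X)).hom.toAlgebra
  haveI : Algebra.IsSeparable (Y.presheaf.stalk (f (genericPoint X))) X.functionField := hs
  haveI : Algebra.FormallyUnramified (Y.presheaf.stalk (f (genericPoint X))) X.functionField :=
    Algebra.FormallyUnramified.of_isSeparable _ _
  have hsub : Subsingleton (CommRingCat.KaehlerDifferential (f.stalkMap (genericPoint X))) :=
    Algebra.FormallyUnramified.subsingleton_kaehlerDifferential
      (R := Y.presheaf.stalk (f (genericPoint X))) (A := X.functionField)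
  obtain ⟨i, -⟩ := Synt29.OmegaStalk.exists_iso_of_eq (OmegaUniv.isUniversal_dOmega f) (genericPoint X)
    (f.stalkMap (genericPoint X)) rfl
  exact Snapper.notMem_support_iff.2 (IsZero.of_iso (ModuleCat.isZero_of_subsingleton _) i.symm)

variable (k : Type u) [Field k] [X.Over (Spec (CommRingCat.of k))] [Y.Over (Spec (CommRingCat.of k))]
  [IsProper (X ↘ Spec (CommRingCat.of k))] [IsProper (Y ↘ Spec (CommRingCat.of k))] [IsFinite f]

include k in
/-- The degree of a cover is the degree of the extension of function fields. -/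
theorem residueDegree_eq [Flat f] [LocallyOfFinitePresentation f] (hdX : topologicalKrullDim X = 1)
    (hdY : topologicalKrullDim Y = 1) (e : f (genericPoint X) = genericPoint Y) :
    f.residueDegree (genericPoint X) = CurveBC.coverDeg f := by
  obtain ⟨-, hsum⟩ := H23.FiniteFibreSum.sum_finrank f (genericPoint Y)
  have hset : (f ⁻¹' {genericPoint Y} : Set X) = {genericPoint X} := by
    ext x
    exact ⟨fun hx => CurveTrace.eq_generic_of_map_eq k hdX hdY hx, fun hx => hx ▸ e⟩
  rw [hset, finsum_mem_singleton] at hsum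
  have hlen : H23.FiniteFibreSum.fibreLen f (genericPoint X) = 1 := by
    have hF : IsField (Y.presheaf.stalk (f (genericPoint X))) := by
      rw [e]; exact Field.toIsField Y.functionField
    unfold H23.FiniteFibreSum.fibreLen
    rw [IsLocalRing.isField_iff_maximalIdeal_eq.1 hF, Ideal.map_bot]
    letI := (CurveBundle.isField_stalk_generic (X := X)).toField
    rw [(Submodule.quotEquivOfEqBot _ rfl).length_eq]
    exact Module.length_eq_one_iff.2 inferInstance
  rw [hlen, ENat.toNat_one, mul_one] at hsum
  rw [hsum]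
  obtain ⟨U, hU, hy, ⟨l⟩⟩ := H23.CoverPush.crit_of_isFinLocFreeOfRank_push f
    (CurveBC.isFinLocFreeOfRank_push f) (genericPoint Y)
  letI := H23.CoverPush.alg f U
  haveI : Module.Free Γ(Y, U) Γ(X, f ⁻¹ᵁ U) := Module.Free.of_equiv l.symm
  haveI : Module.Finite Γ(Y, U) Γ(X, f ⁻¹ᵁ U) := Module.Finite.equiv l.symm
  haveI : Nontrivial Γ(Y, U) := (Y.presheaf.germ U (genericPoint Y) hy).hom.domain_nontrivial
  rw [H23.CoverPush.finrank_eq f hU hy, Module.rankAtStalk_eq_finrank_of_free, Pi.natCast_apply, l.finrank_eq,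
    Module.finrank_finsupp_self, Fintype.card_ulift, Fintype.card_fin]
  rfl

/-- The Hurwitz formula. -/
theorem hurwitz [Smooth (X ↘ Spec (CommRingCat.of k))] [Smooth (Y ↘ Spec (CommRingCat.of k))]
    (hdX : topologicalKrullDim X = 1) (hdY : topologicalKrullDim Y = 1)
    (hX0 : Module.finrank k (Coh.HH X (Coh.structureModule X) 0) = 1)
    (hY0 : Module.finrank k (Coh.HH Y (Coh.structureModule Y) 0) = 1)
    (hf : f ≫ (Y ↘ Spec (CommRingCat.of k)) = X ↘ Spec (CommRingCat.of k))
    (e : f (genericPoint X) = genericPoint Y)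
    (hsep : letI := (CurveTrace.ff e).toAlgebra; Algebra.IsSeparable Y.functionField X.functionField) :
    2 * (Curv2.genus k X : ℤ) - 2 =
      (f.residueDegree (genericPoint X) : ℤ) * (2 * (Curv2.genus k Y : ℤ) - 2) +
        (Module.finrank k (Coh.HH X (Omega.sheaf f) 0) : ℤ) := by
  haveI := CurveCohLib.isNoetherian_of_proper (k := k) (X := X)
  haveI := CurveCohLib.isNoetherian_of_proper (k := k) (X := Y)
  haveI : Flat f := H23.CurveCorr.flat_of_dominant (Y ↘ Spec (CommRingCat.of k)) hdY.le f e
  haveI : LocallyOfFinitePresentation (f ≫ (Y ↘ Spec (CommRingCat.of k))) := by rw [hf]; infer_instance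
  haveI : LocallyOfFinitePresentation f :=
    AlgSpPts.locallyOfFinitePresentation_of_comp f (Y ↘ Spec (CommRingCat.of k))
  let g := Y ↘ Spec (CommRingCat.of k)
  have hΩY : PicF.IsInvertible (Omega.sheaf g) := CurveBC.isInvertible_omega k Y hdY hY0
  have hΩX : PicF.IsInvertible (Omega.sheaf (f ≫ g)) := by rw [hf]; exact CurveBC.isInvertible_omega k X hdX hX0
  have hP : PicF.IsInvertible ((Scheme.Modules.pullback f).obj (Omega.sheaf g)) := PicClLib.isInvertible_pullback f hΩY
  obtain ⟨c₁, hc₁, -⟩ := S9370.result g (f ≫ g) f (𝟙 _) (by rw [Category.comp_id]) _ _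
    (OmegaUniv.isUniversal_dOmega g) _ _ (OmegaUniv.isUniversal_dOmega (f ≫ g))
  obtain ⟨c₂, hc₂, -⟩ := S9370.result (f ≫ g) f (𝟙 X) g (by rw [Category.id_comp]) _ _
    (OmegaUniv.isUniversal_dOmega (f ≫ g)) _ _ (OmegaUniv.isUniversal_dOmega f)
  obtain ⟨hepi, him⟩ := S5975.result f g _ _ (OmegaUniv.isUniversal_dOmega g) _ _
    (OmegaUniv.isUniversal_dOmega (f ≫ g)) _ _ (OmegaUniv.isUniversal_dOmega f) c₁ hc₁ c₂ hc₂
  let q := (Scheme.Modules.pullbackId X).inv.app (Omega.sheaf (f ≫ g)) ≫ c₂
  haveI : Epi q := epi_comp _ _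
  have hw : c₁ ≫ q = 0 := by
    rw [← imageSubobject_arrow_comp c₁, Category.assoc]
    have : (imageSubobject c₁).arrow ≫ q = 0 := by rw [him]; exact kernelSubobject_arrow_comp q
    rw [this, comp_zero]
  have hex : (ShortComplex.mk c₁ q hw).Exact := (ShortComplex.mk c₁ q hw).exact_iff_image_eq_kernel.2 him
  have hne : c₁ ≠ 0 := fun h0 => by
    haveI : Mono q := hex.mono_g h0
    haveI : IsIso q := isIso_of_mono_of_epi q
    have hΩc := AmpleVan.isCoh_invertible hΩX
    have hη : genericPoint X ∉ CohB1.support (Omega.sheaf (f ≫ g)) := by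
      rw [show CohB1.support (Omega.sheaf (f ≫ g)) = CohB1.support (Omega.sheaf f) from
        QCoh.support_iso (M := Omega.sheaf (f ≫ g)) (asIso q) hΩc.1]
      exact notMem_support_omega e hsep
    have h1 : CurveBundle.rk (Omega.sheaf (f ≫ g)) = 1 := CurveBundle.rk_eq (InvEnd.isFinLocFreeOfRank_one hΩX)
    haveI : Subsingleton ((Omega.sheaf (f ≫ g)).presheaf.stalk (genericPoint X)) := not_not.1 hη
    unfold CurveBundle.rk at h1
    rw [Module.finrank_zero_of_subsingleton] at h1
    exact zero_ne_one h1
  haveI : Mono c₁ := InvEnd.mono_of_ne_zero hP hΩX _ hne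
  have hS : (ShortComplex.mk c₁ q hw).ShortExact := .mk' hex inferInstance inferInstance
  have hPc := AmpleVan.isCoh_invertible hP
  have hXc := AmpleVan.isCoh_invertible hΩX
  have hQ : Coh.IsCoh (Omega.sheaf f) :=
    QCoh.isCoh_of_epi q hXc ((QCoh.isQCoh_iff_iso (hS.gIsCokernel.coconePointUniqueUpToIso
      (cokernelIsCokernel c₁))).2 (QCoh.isQCoh_cokernel hPc.1 hXc.1 c₁))
  have hadd := CurveCohLib.euler_additive (k := k) hS hPc hXc hQ
  have hη := notMem_support_omega e hsep
  have hcl : ∀ x ∈ CohB1.support (Omega.sheaf f), IsClosed ({x} : Set X) := fun x hx => by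
    by_contra hxc
    obtain rfl := CurveCohLib.eq_genericPoint_of_not_isClosed hdX hxc
    exact hη hx
  haveI := CurveVanish.subsingleton_HH_of_finite
    (CurveCohLib.finite_of_closedPoints (QCoh.isClosed_support_of_isFT hQ.1 hQ.2) hcl) hcl
    (fun x hx => not_not.1 hx) 0
  have hχ : Curv2.euler k X (Omega.sheaf f) = Module.finrank k (Coh.HH X (Omega.sheaf f) 0) := by
    rw [CurveRR.euler_eq_h0_sub_h1 k hdX.le hQ.1, Module.finrank_zero_of_subsingleton (R := k)
      (M := Coh.HH X (Omega.sheaf f) 1)]
    simp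
  have hdP := CurveBC.deg_pullback k f hdY hf hΩY
  have hdegX : Curv2.deg k X (Omega.sheaf (f ≫ g)) 1 = 2 * (Curv2.genus k X : ℤ) - 2 := by
    rw [hf]; exact (CurveBC.canonical_invariants k X hdX hX0).2
  rw [residueDegree_eq k hdX hdY e, ← hdegX, ← (CurveBC.canonical_invariants k Y hdY hY0).2, ← hdP, ← hχ]
  unfold Curv2.deg
  dsimp only at hadd
  rw [hadd]
  ring

end Groth.Agent.CurveHurwitz
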